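import Cfsg.Agent.Lib.Helper4.F24M.U7.P0
import Cfsg.Agent.Lib.Helper4.F24M.U7.P1
import Cfsg.Agent.Lib.Helper4.F24M.U7.P2
set_option autoImplicit false

/-! # The structural check of the data -/

namespace Cfsg.Agent.Lib.Helper4.F24M.U7
open Cfsg.Agent.Lib.Helper1.StemSA Cfsg.Agent.Lib.Helper4.Sparse

theorem tree_all (j : ℕ) (h1 : 1 ≤ j) (h2 : j < 306936) : chkTreeAt 12 piT parT 4 j = true := by
  rcases Nat.lt_or_ge j 122881 with g0 | g0
  · exact treeP0 j (by omega) g0
  rcases Nat.lt_or_ge j 245761 with g1 | g1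
  · exact treeP1 j (by omega) g1
  exact treeP2 j (by omega) h2

set_option maxRecDepth 1000000 in
theorem rels_lt : ∀ w ∈ rels, (∀ i ∈ w.1, i < 12) ∧ ∀ i ∈ w.2, i < 12 := by decide

/-- the structural check, from the bound on the tables -/
theorem chkStruct_of (hpi : ∀ i < 12, ∀ j < 306936, piT i j < 306936) : D.chkStruct = true :=
  chkStruct_mkD 12 306936 piT parT 4 rels hpi tree_all rels_lt

theorem D_ords : ∀ i < D.k, D.ords.getD i 0 = 0 := mkD_ords 12 306936 piT parT 4 rels

theorem D_k : D.k = 12 := rfl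
theorem D_m : D.m = 306936 := rfl
theorem D_pi : D.pi = piT := rfl
theorem D_rels : D.rels = rels := rfl

end Cfsg.Agent.Lib.Helper4.F24M.U7
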