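import Cfsg.Agent.Lib.Helper4.F24M.U7.Cert
set_option autoImplicit false
set_option maxRecDepth 1000000
set_option Elab.async false
namespace Cfsg.Agent.Lib.Helper4.F24M.U7
open Cfsg.Agent.Lib.Helper4.Sparse
theorem ck_180 : chkURange D C 737280 4096 = true := by decide +kernel
theorem ck_181 : chkURange D C 741376 4096 = true := by decide +kernel
theorem ck_182 : chkURange D C 745472 4096 = true := by decide +kernel
theorem ck_183 : chkURange D C 749568 4096 = true := by decide +kernel
theorem ck_184 : chkURange D C 753664 4096 = true := by decide +kernel
theorem ck_185 : chkURange D C 757760 4096 = true := by decide +kernel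
theorem ck_186 : chkURange D C 761856 4096 = true := by decide +kernel
theorem ck_187 : chkURange D C 765952 4096 = true := by decide +kernel
theorem ck_188 : chkURange D C 770048 4096 = true := by decide +kernel
theorem ck_189 : chkURange D C 774144 4096 = true := by decide +kernel
theorem ck_190 : chkURange D C 778240 4096 = true := by decide +kernel
theorem ck_191 : chkURange D C 782336 4096 = true := by decide +kernel
theorem chkU_15 (b : ℕ) (h1 : 737280 ≤ b) (h2 : b < 786432) : chkU D C b = true := by
  rcases Nat.lt_or_ge b 741376 with g0 | g0
  · exact chkURange_spec D C 737280 4096 ck_180 b (by omega) (by omega)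
  rcases Nat.lt_or_ge b 745472 with g1 | g1
  · exact chkURange_spec D C 741376 4096 ck_181 b (by omega) (by omega)
  rcases Nat.lt_or_ge b 749568 with g2 | g2
  · exact chkURange_spec D C 745472 4096 ck_182 b (by omega) (by omega)
  rcases Nat.lt_or_ge b 753664 with g3 | g3
  · exact chkURange_spec D C 749568 4096 ck_183 b (by omega) (by omega)
  rcases Nat.lt_or_ge b 757760 with g4 | g4
  · exact chkURange_spec D C 753664 4096 ck_184 b (by omega) (by omega)
  rcases Nat.lt_or_ge b 761856 with g5 | g5
  · exact chkURange_spec D C 757760 4096 ck_185 b (by omega) (by omega)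
  rcases Nat.lt_or_ge b 765952 with g6 | g6
  · exact chkURange_spec D C 761856 4096 ck_186 b (by omega) (by omega)
  rcases Nat.lt_or_ge b 770048 with g7 | g7
  · exact chkURange_spec D C 765952 4096 ck_187 b (by omega) (by omega)
  rcases Nat.lt_or_ge b 774144 with g8 | g8
  · exact chkURange_spec D C 770048 4096 ck_188 b (by omega) (by omega)
  rcases Nat.lt_or_ge b 778240 with g9 | g9
  · exact chkURange_spec D C 774144 4096 ck_189 b (by omega) (by omega)
  rcases Nat.lt_or_ge b 782336 with g10 | g10
  · exact chkURange_spec D C 778240 4096 ck_190 b (by omega) (by omega)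
  exact chkURange_spec D C 782336 4096 ck_191 b (by omega) (by omega)
end Cfsg.Agent.Lib.Helper4.F24M.U7
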