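import Cfsg.Agent.Lib.Helper4.F24M.U7.Cert
set_option autoImplicit false
set_option maxRecDepth 1000000
set_option Elab.async false
namespace Cfsg.Agent.Lib.Helper4.F24M.U7
open Cfsg.Agent.Lib.Helper4.Sparse
theorem ck_228 : chkURange D C 933888 4096 = true := by decide +kernel
theorem ck_229 : chkURange D C 937984 4096 = true := by decide +kernel
theorem ck_230 : chkURange D C 942080 4096 = true := by decide +kernel
theorem ck_231 : chkURange D C 946176 4096 = true := by decide +kernel
theorem ck_232 : chkURange D C 950272 4096 = true := by decide +kernel
theorem ck_233 : chkURange D C 954368 4096 = true := by decide +kernel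
theorem ck_234 : chkURange D C 958464 4096 = true := by decide +kernel
theorem ck_235 : chkURange D C 962560 4096 = true := by decide +kernel
theorem ck_236 : chkURange D C 966656 4096 = true := by decide +kernel
theorem ck_237 : chkURange D C 970752 4096 = true := by decide +kernel
theorem ck_238 : chkURange D C 974848 4096 = true := by decide +kernel
theorem ck_239 : chkURange D C 978944 4096 = true := by decide +kernel
theorem chkU_19 (b : ℕ) (h1 : 933888 ≤ b) (h2 : b < 983040) : chkU D C b = true := by
  rcases Nat.lt_or_ge b 937984 with g0 | g0
  · exact chkURange_spec D C 933888 4096 ck_228 b (by omega) (by omega)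
  rcases Nat.lt_or_ge b 942080 with g1 | g1
  · exact chkURange_spec D C 937984 4096 ck_229 b (by omega) (by omega)
  rcases Nat.lt_or_ge b 946176 with g2 | g2
  · exact chkURange_spec D C 942080 4096 ck_230 b (by omega) (by omega)
  rcases Nat.lt_or_ge b 950272 with g3 | g3
  · exact chkURange_spec D C 946176 4096 ck_231 b (by omega) (by omega)
  rcases Nat.lt_or_ge b 954368 with g4 | g4
  · exact chkURange_spec D C 950272 4096 ck_232 b (by omega) (by omega)
  rcases Nat.lt_or_ge b 958464 with g5 | g5
  · exact chkURange_spec D C 954368 4096 ck_233 b (by omega) (by omega)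
  rcases Nat.lt_or_ge b 962560 with g6 | g6
  · exact chkURange_spec D C 958464 4096 ck_234 b (by omega) (by omega)
  rcases Nat.lt_or_ge b 966656 with g7 | g7
  · exact chkURange_spec D C 962560 4096 ck_235 b (by omega) (by omega)
  rcases Nat.lt_or_ge b 970752 with g8 | g8
  · exact chkURange_spec D C 966656 4096 ck_236 b (by omega) (by omega)
  rcases Nat.lt_or_ge b 974848 with g9 | g9
  · exact chkURange_spec D C 970752 4096 ck_237 b (by omega) (by omega)
  rcases Nat.lt_or_ge b 978944 with g10 | g10
  · exact chkURange_spec D C 974848 4096 ck_238 b (by omega) (by omega)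
  exact chkURange_spec D C 978944 4096 ck_239 b (by omega) (by omega)
end Cfsg.Agent.Lib.Helper4.F24M.U7
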