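import Cfsg.Agent.Lib.Helper4.F24M.U7.Cert
set_option autoImplicit false
set_option maxRecDepth 1000000
set_option Elab.async false
namespace Cfsg.Agent.Lib.Helper4.F24M.U7
open Cfsg.Agent.Lib.Helper4.Sparse
theorem ck_240 : chkURange D C 983040 4096 = true := by decide +kernel
theorem ck_241 : chkURange D C 987136 4096 = true := by decide +kernel
theorem ck_242 : chkURange D C 991232 4096 = true := by decide +kernel
theorem ck_243 : chkURange D C 995328 4096 = true := by decide +kernel
theorem ck_244 : chkURange D C 999424 4096 = true := by decide +kernel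
theorem ck_245 : chkURange D C 1003520 4096 = true := by decide +kernel
theorem ck_246 : chkURange D C 1007616 4096 = true := by decide +kernel
theorem ck_247 : chkURange D C 1011712 4096 = true := by decide +kernel
theorem ck_248 : chkURange D C 1015808 4096 = true := by decide +kernel
theorem ck_249 : chkURange D C 1019904 4096 = true := by decide +kernel
theorem ck_250 : chkURange D C 1024000 4096 = true := by decide +kernel
theorem ck_251 : chkURange D C 1028096 4096 = true := by decide +kernel
theorem chkU_20 (b : ℕ) (h1 : 983040 ≤ b) (h2 : b < 1032192) : chkU D C b = true := by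
  rcases Nat.lt_or_ge b 987136 with g0 | g0
  · exact chkURange_spec D C 983040 4096 ck_240 b (by omega) (by omega)
  rcases Nat.lt_or_ge b 991232 with g1 | g1
  · exact chkURange_spec D C 987136 4096 ck_241 b (by omega) (by omega)
  rcases Nat.lt_or_ge b 995328 with g2 | g2
  · exact chkURange_spec D C 991232 4096 ck_242 b (by omega) (by omega)
  rcases Nat.lt_or_ge b 999424 with g3 | g3
  · exact chkURange_spec D C 995328 4096 ck_243 b (by omega) (by omega)
  rcases Nat.lt_or_ge b 1003520 with g4 | g4
  · exact chkURange_spec D C 999424 4096 ck_244 b (by omega) (by omega)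
  rcases Nat.lt_or_ge b 1007616 with g5 | g5
  · exact chkURange_spec D C 1003520 4096 ck_245 b (by omega) (by omega)
  rcases Nat.lt_or_ge b 1011712 with g6 | g6
  · exact chkURange_spec D C 1007616 4096 ck_246 b (by omega) (by omega)
  rcases Nat.lt_or_ge b 1015808 with g7 | g7
  · exact chkURange_spec D C 1011712 4096 ck_247 b (by omega) (by omega)
  rcases Nat.lt_or_ge b 1019904 with g8 | g8
  · exact chkURange_spec D C 1015808 4096 ck_248 b (by omega) (by omega)
  rcases Nat.lt_or_ge b 1024000 with g9 | g9
  · exact chkURange_spec D C 1019904 4096 ck_249 b (by omega) (by omega)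
  rcases Nat.lt_or_ge b 1028096 with g10 | g10
  · exact chkURange_spec D C 1024000 4096 ck_250 b (by omega) (by omega)
  exact chkURange_spec D C 1028096 4096 ck_251 b (by omega) (by omega)
end Cfsg.Agent.Lib.Helper4.F24M.U7
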