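import Cfsg.Agent.Lib.Helper4.F24M.U7.Cert
set_option autoImplicit false
set_option maxRecDepth 1000000
set_option Elab.async false
namespace Cfsg.Agent.Lib.Helper4.F24M.U7
open Cfsg.Agent.Lib.Helper4.Sparse
theorem ck_288 : chkURange D C 1179648 4096 = true := by decide +kernel
theorem ck_289 : chkURange D C 1183744 4096 = true := by decide +kernel
theorem ck_290 : chkURange D C 1187840 4096 = true := by decide +kernel
theorem ck_291 : chkURange D C 1191936 4096 = true := by decide +kernel
theorem ck_292 : chkURange D C 1196032 4096 = true := by decide +kernel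
theorem ck_293 : chkURange D C 1200128 4096 = true := by decide +kernel
theorem ck_294 : chkURange D C 1204224 4096 = true := by decide +kernel
theorem ck_295 : chkURange D C 1208320 4096 = true := by decide +kernel
theorem ck_296 : chkURange D C 1212416 4096 = true := by decide +kernel
theorem ck_297 : chkURange D C 1216512 4096 = true := by decide +kernel
theorem ck_298 : chkURange D C 1220608 4096 = true := by decide +kernel
theorem ck_299 : chkURange D C 1224704 4096 = true := by decide +kernel
theorem chkU_24 (b : ℕ) (h1 : 1179648 ≤ b) (h2 : b < 1228800) : chkU D C b = true := by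
  rcases Nat.lt_or_ge b 1183744 with g0 | g0
  · exact chkURange_spec D C 1179648 4096 ck_288 b (by omega) (by omega)
  rcases Nat.lt_or_ge b 1187840 with g1 | g1
  · exact chkURange_spec D C 1183744 4096 ck_289 b (by omega) (by omega)
  rcases Nat.lt_or_ge b 1191936 with g2 | g2
  · exact chkURange_spec D C 1187840 4096 ck_290 b (by omega) (by omega)
  rcases Nat.lt_or_ge b 1196032 with g3 | g3
  · exact chkURange_spec D C 1191936 4096 ck_291 b (by omega) (by omega)
  rcases Nat.lt_or_ge b 1200128 with g4 | g4
  · exact chkURange_spec D C 1196032 4096 ck_292 b (by omega) (by omega)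
  rcases Nat.lt_or_ge b 1204224 with g5 | g5
  · exact chkURange_spec D C 1200128 4096 ck_293 b (by omega) (by omega)
  rcases Nat.lt_or_ge b 1208320 with g6 | g6
  · exact chkURange_spec D C 1204224 4096 ck_294 b (by omega) (by omega)
  rcases Nat.lt_or_ge b 1212416 with g7 | g7
  · exact chkURange_spec D C 1208320 4096 ck_295 b (by omega) (by omega)
  rcases Nat.lt_or_ge b 1216512 with g8 | g8
  · exact chkURange_spec D C 1212416 4096 ck_296 b (by omega) (by omega)
  rcases Nat.lt_or_ge b 1220608 with g9 | g9
  · exact chkURange_spec D C 1216512 4096 ck_297 b (by omega) (by omega)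
  rcases Nat.lt_or_ge b 1224704 with g10 | g10
  · exact chkURange_spec D C 1220608 4096 ck_298 b (by omega) (by omega)
  exact chkURange_spec D C 1224704 4096 ck_299 b (by omega) (by omega)
end Cfsg.Agent.Lib.Helper4.F24M.U7
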