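import Cfsg.Agent.Lib.Helper4.F24M.U7.Cert
set_option autoImplicit false
set_option maxRecDepth 1000000
set_option Elab.async false
namespace Cfsg.Agent.Lib.Helper4.F24M.U7
open Cfsg.Agent.Lib.Helper4.Sparse
theorem ck_396 : chkURange D C 1622016 4096 = true := by decide +kernel
theorem ck_397 : chkURange D C 1626112 4096 = true := by decide +kernel
theorem ck_398 : chkURange D C 1630208 4096 = true := by decide +kernel
theorem ck_399 : chkURange D C 1634304 4096 = true := by decide +kernel
theorem ck_400 : chkURange D C 1638400 4096 = true := by decide +kernel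
theorem ck_401 : chkURange D C 1642496 4096 = true := by decide +kernel
theorem ck_402 : chkURange D C 1646592 4096 = true := by decide +kernel
theorem ck_403 : chkURange D C 1650688 4096 = true := by decide +kernel
theorem ck_404 : chkURange D C 1654784 4096 = true := by decide +kernel
theorem ck_405 : chkURange D C 1658880 4096 = true := by decide +kernel
theorem ck_406 : chkURange D C 1662976 4096 = true := by decide +kernel
theorem ck_407 : chkURange D C 1667072 4096 = true := by decide +kernel
theorem chkU_33 (b : ℕ) (h1 : 1622016 ≤ b) (h2 : b < 1671168) : chkU D C b = true := by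
  rcases Nat.lt_or_ge b 1626112 with g0 | g0
  · exact chkURange_spec D C 1622016 4096 ck_396 b (by omega) (by omega)
  rcases Nat.lt_or_ge b 1630208 with g1 | g1
  · exact chkURange_spec D C 1626112 4096 ck_397 b (by omega) (by omega)
  rcases Nat.lt_or_ge b 1634304 with g2 | g2
  · exact chkURange_spec D C 1630208 4096 ck_398 b (by omega) (by omega)
  rcases Nat.lt_or_ge b 1638400 with g3 | g3
  · exact chkURange_spec D C 1634304 4096 ck_399 b (by omega) (by omega)
  rcases Nat.lt_or_ge b 1642496 with g4 | g4
  · exact chkURange_spec D C 1638400 4096 ck_400 b (by omega) (by omega)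
  rcases Nat.lt_or_ge b 1646592 with g5 | g5
  · exact chkURange_spec D C 1642496 4096 ck_401 b (by omega) (by omega)
  rcases Nat.lt_or_ge b 1650688 with g6 | g6
  · exact chkURange_spec D C 1646592 4096 ck_402 b (by omega) (by omega)
  rcases Nat.lt_or_ge b 1654784 with g7 | g7
  · exact chkURange_spec D C 1650688 4096 ck_403 b (by omega) (by omega)
  rcases Nat.lt_or_ge b 1658880 with g8 | g8
  · exact chkURange_spec D C 1654784 4096 ck_404 b (by omega) (by omega)
  rcases Nat.lt_or_ge b 1662976 with g9 | g9
  · exact chkURange_spec D C 1658880 4096 ck_405 b (by omega) (by omega)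
  rcases Nat.lt_or_ge b 1667072 with g10 | g10
  · exact chkURange_spec D C 1662976 4096 ck_406 b (by omega) (by omega)
  exact chkURange_spec D C 1667072 4096 ck_407 b (by omega) (by omega)
end Cfsg.Agent.Lib.Helper4.F24M.U7
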