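import Cfsg.Agent.Lib.Helper4.F24M.U7.Cert
set_option autoImplicit false
set_option maxRecDepth 1000000
set_option Elab.async false
namespace Cfsg.Agent.Lib.Helper4.F24M.U7
open Cfsg.Agent.Lib.Helper4.Sparse
theorem ck_444 : chkURange D C 1818624 4096 = true := by decide +kernel
theorem ck_445 : chkURange D C 1822720 4096 = true := by decide +kernel
theorem ck_446 : chkURange D C 1826816 4096 = true := by decide +kernel
theorem ck_447 : chkURange D C 1830912 4096 = true := by decide +kernel
theorem ck_448 : chkURange D C 1835008 4096 = true := by decide +kernel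
theorem ck_449 : chkURange D C 1839104 4096 = true := by decide +kernel
theorem ck_450 : chkURange D C 1843200 4096 = true := by decide +kernel
theorem ck_451 : chkURange D C 1847296 4096 = true := by decide +kernel
theorem ck_452 : chkURange D C 1851392 4096 = true := by decide +kernel
theorem ck_453 : chkURange D C 1855488 4096 = true := by decide +kernel
theorem ck_454 : chkURange D C 1859584 4096 = true := by decide +kernel
theorem ck_455 : chkURange D C 1863680 4096 = true := by decide +kernel
theorem chkU_37 (b : ℕ) (h1 : 1818624 ≤ b) (h2 : b < 1867776) : chkU D C b = true := by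
  rcases Nat.lt_or_ge b 1822720 with g0 | g0
  · exact chkURange_spec D C 1818624 4096 ck_444 b (by omega) (by omega)
  rcases Nat.lt_or_ge b 1826816 with g1 | g1
  · exact chkURange_spec D C 1822720 4096 ck_445 b (by omega) (by omega)
  rcases Nat.lt_or_ge b 1830912 with g2 | g2
  · exact chkURange_spec D C 1826816 4096 ck_446 b (by omega) (by omega)
  rcases Nat.lt_or_ge b 1835008 with g3 | g3
  · exact chkURange_spec D C 1830912 4096 ck_447 b (by omega) (by omega)
  rcases Nat.lt_or_ge b 1839104 with g4 | g4
  · exact chkURange_spec D C 1835008 4096 ck_448 b (by omega) (by omega)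
  rcases Nat.lt_or_ge b 1843200 with g5 | g5
  · exact chkURange_spec D C 1839104 4096 ck_449 b (by omega) (by omega)
  rcases Nat.lt_or_ge b 1847296 with g6 | g6
  · exact chkURange_spec D C 1843200 4096 ck_450 b (by omega) (by omega)
  rcases Nat.lt_or_ge b 1851392 with g7 | g7
  · exact chkURange_spec D C 1847296 4096 ck_451 b (by omega) (by omega)
  rcases Nat.lt_or_ge b 1855488 with g8 | g8
  · exact chkURange_spec D C 1851392 4096 ck_452 b (by omega) (by omega)
  rcases Nat.lt_or_ge b 1859584 with g9 | g9
  · exact chkURange_spec D C 1855488 4096 ck_453 b (by omega) (by omega)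
  rcases Nat.lt_or_ge b 1863680 with g10 | g10
  · exact chkURange_spec D C 1859584 4096 ck_454 b (by omega) (by omega)
  exact chkURange_spec D C 1863680 4096 ck_455 b (by omega) (by omega)
end Cfsg.Agent.Lib.Helper4.F24M.U7
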