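import Cfsg.Agent.Lib.Helper4.F24M.U7.Cert
set_option autoImplicit false
set_option maxRecDepth 1000000
set_option Elab.async false
namespace Cfsg.Agent.Lib.Helper4.F24M.U7
open Cfsg.Agent.Lib.Helper4.Sparse
theorem ck_456 : chkURange D C 1867776 4096 = true := by decide +kernel
theorem ck_457 : chkURange D C 1871872 4096 = true := by decide +kernel
theorem ck_458 : chkURange D C 1875968 4096 = true := by decide +kernel
theorem ck_459 : chkURange D C 1880064 4096 = true := by decide +kernel
theorem ck_460 : chkURange D C 1884160 4096 = true := by decide +kernel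
theorem ck_461 : chkURange D C 1888256 4096 = true := by decide +kernel
theorem ck_462 : chkURange D C 1892352 4096 = true := by decide +kernel
theorem ck_463 : chkURange D C 1896448 4096 = true := by decide +kernel
theorem ck_464 : chkURange D C 1900544 4096 = true := by decide +kernel
theorem ck_465 : chkURange D C 1904640 4096 = true := by decide +kernel
theorem ck_466 : chkURange D C 1908736 4096 = true := by decide +kernel
theorem ck_467 : chkURange D C 1912832 4096 = true := by decide +kernel
theorem chkU_38 (b : ℕ) (h1 : 1867776 ≤ b) (h2 : b < 1916928) : chkU D C b = true := by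
  rcases Nat.lt_or_ge b 1871872 with g0 | g0
  · exact chkURange_spec D C 1867776 4096 ck_456 b (by omega) (by omega)
  rcases Nat.lt_or_ge b 1875968 with g1 | g1
  · exact chkURange_spec D C 1871872 4096 ck_457 b (by omega) (by omega)
  rcases Nat.lt_or_ge b 1880064 with g2 | g2
  · exact chkURange_spec D C 1875968 4096 ck_458 b (by omega) (by omega)
  rcases Nat.lt_or_ge b 1884160 with g3 | g3
  · exact chkURange_spec D C 1880064 4096 ck_459 b (by omega) (by omega)
  rcases Nat.lt_or_ge b 1888256 with g4 | g4
  · exact chkURange_spec D C 1884160 4096 ck_460 b (by omega) (by omega)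
  rcases Nat.lt_or_ge b 1892352 with g5 | g5
  · exact chkURange_spec D C 1888256 4096 ck_461 b (by omega) (by omega)
  rcases Nat.lt_or_ge b 1896448 with g6 | g6
  · exact chkURange_spec D C 1892352 4096 ck_462 b (by omega) (by omega)
  rcases Nat.lt_or_ge b 1900544 with g7 | g7
  · exact chkURange_spec D C 1896448 4096 ck_463 b (by omega) (by omega)
  rcases Nat.lt_or_ge b 1904640 with g8 | g8
  · exact chkURange_spec D C 1900544 4096 ck_464 b (by omega) (by omega)
  rcases Nat.lt_or_ge b 1908736 with g9 | g9
  · exact chkURange_spec D C 1904640 4096 ck_465 b (by omega) (by omega)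
  rcases Nat.lt_or_ge b 1912832 with g10 | g10
  · exact chkURange_spec D C 1908736 4096 ck_466 b (by omega) (by omega)
  exact chkURange_spec D C 1912832 4096 ck_467 b (by omega) (by omega)
end Cfsg.Agent.Lib.Helper4.F24M.U7
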