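import Cfsg.Agent.Lib.Helper4.F24M.U7.Cert
set_option autoImplicit false
set_option maxRecDepth 1000000
set_option Elab.async false
namespace Cfsg.Agent.Lib.Helper4.F24M.U7
open Cfsg.Agent.Lib.Helper4.Sparse
theorem ck_492 : chkURange D C 2015232 4096 = true := by decide +kernel
theorem ck_493 : chkURange D C 2019328 4096 = true := by decide +kernel
theorem ck_494 : chkURange D C 2023424 4096 = true := by decide +kernel
theorem ck_495 : chkURange D C 2027520 4096 = true := by decide +kernel
theorem ck_496 : chkURange D C 2031616 4096 = true := by decide +kernel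
theorem ck_497 : chkURange D C 2035712 4096 = true := by decide +kernel
theorem ck_498 : chkURange D C 2039808 4096 = true := by decide +kernel
theorem ck_499 : chkURange D C 2043904 4096 = true := by decide +kernel
theorem ck_500 : chkURange D C 2048000 4096 = true := by decide +kernel
theorem ck_501 : chkURange D C 2052096 4096 = true := by decide +kernel
theorem ck_502 : chkURange D C 2056192 4096 = true := by decide +kernel
theorem ck_503 : chkURange D C 2060288 4096 = true := by decide +kernel
theorem chkU_41 (b : ℕ) (h1 : 2015232 ≤ b) (h2 : b < 2064384) : chkU D C b = true := by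
  rcases Nat.lt_or_ge b 2019328 with g0 | g0
  · exact chkURange_spec D C 2015232 4096 ck_492 b (by omega) (by omega)
  rcases Nat.lt_or_ge b 2023424 with g1 | g1
  · exact chkURange_spec D C 2019328 4096 ck_493 b (by omega) (by omega)
  rcases Nat.lt_or_ge b 2027520 with g2 | g2
  · exact chkURange_spec D C 2023424 4096 ck_494 b (by omega) (by omega)
  rcases Nat.lt_or_ge b 2031616 with g3 | g3
  · exact chkURange_spec D C 2027520 4096 ck_495 b (by omega) (by omega)
  rcases Nat.lt_or_ge b 2035712 with g4 | g4
  · exact chkURange_spec D C 2031616 4096 ck_496 b (by omega) (by omega)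
  rcases Nat.lt_or_ge b 2039808 with g5 | g5
  · exact chkURange_spec D C 2035712 4096 ck_497 b (by omega) (by omega)
  rcases Nat.lt_or_ge b 2043904 with g6 | g6
  · exact chkURange_spec D C 2039808 4096 ck_498 b (by omega) (by omega)
  rcases Nat.lt_or_ge b 2048000 with g7 | g7
  · exact chkURange_spec D C 2043904 4096 ck_499 b (by omega) (by omega)
  rcases Nat.lt_or_ge b 2052096 with g8 | g8
  · exact chkURange_spec D C 2048000 4096 ck_500 b (by omega) (by omega)
  rcases Nat.lt_or_ge b 2056192 with g9 | g9
  · exact chkURange_spec D C 2052096 4096 ck_501 b (by omega) (by omega)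
  rcases Nat.lt_or_ge b 2060288 with g10 | g10
  · exact chkURange_spec D C 2056192 4096 ck_502 b (by omega) (by omega)
  exact chkURange_spec D C 2060288 4096 ck_503 b (by omega) (by omega)
end Cfsg.Agent.Lib.Helper4.F24M.U7
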