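import Cfsg.Agent.Lib.Helper4.F24M.U7.Cert
set_option autoImplicit false
set_option maxRecDepth 1000000
set_option Elab.async false
namespace Cfsg.Agent.Lib.Helper4.F24M.U7
open Cfsg.Agent.Lib.Helper4.Sparse
theorem ck_516 : chkURange D C 2113536 4096 = true := by decide +kernel
theorem ck_517 : chkURange D C 2117632 4096 = true := by decide +kernel
theorem ck_518 : chkURange D C 2121728 4096 = true := by decide +kernel
theorem ck_519 : chkURange D C 2125824 4096 = true := by decide +kernel
theorem ck_520 : chkURange D C 2129920 4096 = true := by decide +kernel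
theorem ck_521 : chkURange D C 2134016 4096 = true := by decide +kernel
theorem ck_522 : chkURange D C 2138112 4096 = true := by decide +kernel
theorem ck_523 : chkURange D C 2142208 4096 = true := by decide +kernel
theorem ck_524 : chkURange D C 2146304 4096 = true := by decide +kernel
theorem ck_525 : chkURange D C 2150400 4096 = true := by decide +kernel
theorem ck_526 : chkURange D C 2154496 4096 = true := by decide +kernel
theorem ck_527 : chkURange D C 2158592 4096 = true := by decide +kernel
theorem chkU_43 (b : ℕ) (h1 : 2113536 ≤ b) (h2 : b < 2162688) : chkU D C b = true := by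
  rcases Nat.lt_or_ge b 2117632 with g0 | g0
  · exact chkURange_spec D C 2113536 4096 ck_516 b (by omega) (by omega)
  rcases Nat.lt_or_ge b 2121728 with g1 | g1
  · exact chkURange_spec D C 2117632 4096 ck_517 b (by omega) (by omega)
  rcases Nat.lt_or_ge b 2125824 with g2 | g2
  · exact chkURange_spec D C 2121728 4096 ck_518 b (by omega) (by omega)
  rcases Nat.lt_or_ge b 2129920 with g3 | g3
  · exact chkURange_spec D C 2125824 4096 ck_519 b (by omega) (by omega)
  rcases Nat.lt_or_ge b 2134016 with g4 | g4
  · exact chkURange_spec D C 2129920 4096 ck_520 b (by omega) (by omega)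
  rcases Nat.lt_or_ge b 2138112 with g5 | g5
  · exact chkURange_spec D C 2134016 4096 ck_521 b (by omega) (by omega)
  rcases Nat.lt_or_ge b 2142208 with g6 | g6
  · exact chkURange_spec D C 2138112 4096 ck_522 b (by omega) (by omega)
  rcases Nat.lt_or_ge b 2146304 with g7 | g7
  · exact chkURange_spec D C 2142208 4096 ck_523 b (by omega) (by omega)
  rcases Nat.lt_or_ge b 2150400 with g8 | g8
  · exact chkURange_spec D C 2146304 4096 ck_524 b (by omega) (by omega)
  rcases Nat.lt_or_ge b 2154496 with g9 | g9
  · exact chkURange_spec D C 2150400 4096 ck_525 b (by omega) (by omega)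
  rcases Nat.lt_or_ge b 2158592 with g10 | g10
  · exact chkURange_spec D C 2154496 4096 ck_526 b (by omega) (by omega)
  exact chkURange_spec D C 2158592 4096 ck_527 b (by omega) (by omega)
end Cfsg.Agent.Lib.Helper4.F24M.U7
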