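import Cfsg.Agent.Lib.Helper4.F24M.U7.Cert
set_option autoImplicit false
set_option maxRecDepth 1000000
set_option Elab.async false
namespace Cfsg.Agent.Lib.Helper4.F24M.U7
open Cfsg.Agent.Lib.Helper4.Sparse
theorem ck_552 : chkURange D C 2260992 4096 = true := by decide +kernel
theorem ck_553 : chkURange D C 2265088 4096 = true := by decide +kernel
theorem ck_554 : chkURange D C 2269184 4096 = true := by decide +kernel
theorem ck_555 : chkURange D C 2273280 4096 = true := by decide +kernel
theorem ck_556 : chkURange D C 2277376 4096 = true := by decide +kernel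
theorem ck_557 : chkURange D C 2281472 4096 = true := by decide +kernel
theorem ck_558 : chkURange D C 2285568 4096 = true := by decide +kernel
theorem ck_559 : chkURange D C 2289664 4096 = true := by decide +kernel
theorem ck_560 : chkURange D C 2293760 4096 = true := by decide +kernel
theorem ck_561 : chkURange D C 2297856 4096 = true := by decide +kernel
theorem ck_562 : chkURange D C 2301952 4096 = true := by decide +kernel
theorem ck_563 : chkURange D C 2306048 4096 = true := by decide +kernel
theorem chkU_46 (b : ℕ) (h1 : 2260992 ≤ b) (h2 : b < 2310144) : chkU D C b = true := by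
  rcases Nat.lt_or_ge b 2265088 with g0 | g0
  · exact chkURange_spec D C 2260992 4096 ck_552 b (by omega) (by omega)
  rcases Nat.lt_or_ge b 2269184 with g1 | g1
  · exact chkURange_spec D C 2265088 4096 ck_553 b (by omega) (by omega)
  rcases Nat.lt_or_ge b 2273280 with g2 | g2
  · exact chkURange_spec D C 2269184 4096 ck_554 b (by omega) (by omega)
  rcases Nat.lt_or_ge b 2277376 with g3 | g3
  · exact chkURange_spec D C 2273280 4096 ck_555 b (by omega) (by omega)
  rcases Nat.lt_or_ge b 2281472 with g4 | g4
  · exact chkURange_spec D C 2277376 4096 ck_556 b (by omega) (by omega)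
  rcases Nat.lt_or_ge b 2285568 with g5 | g5
  · exact chkURange_spec D C 2281472 4096 ck_557 b (by omega) (by omega)
  rcases Nat.lt_or_ge b 2289664 with g6 | g6
  · exact chkURange_spec D C 2285568 4096 ck_558 b (by omega) (by omega)
  rcases Nat.lt_or_ge b 2293760 with g7 | g7
  · exact chkURange_spec D C 2289664 4096 ck_559 b (by omega) (by omega)
  rcases Nat.lt_or_ge b 2297856 with g8 | g8
  · exact chkURange_spec D C 2293760 4096 ck_560 b (by omega) (by omega)
  rcases Nat.lt_or_ge b 2301952 with g9 | g9
  · exact chkURange_spec D C 2297856 4096 ck_561 b (by omega) (by omega)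
  rcases Nat.lt_or_ge b 2306048 with g10 | g10
  · exact chkURange_spec D C 2301952 4096 ck_562 b (by omega) (by omega)
  exact chkURange_spec D C 2306048 4096 ck_563 b (by omega) (by omega)
end Cfsg.Agent.Lib.Helper4.F24M.U7
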