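import Cfsg.Agent.Lib.Helper4.F24M.U7.Cert
set_option autoImplicit false
set_option maxRecDepth 1000000
set_option Elab.async false
namespace Cfsg.Agent.Lib.Helper4.F24M.U7
open Cfsg.Agent.Lib.Helper4.Sparse
theorem ck_636 : chkURange D C 2605056 4096 = true := by decide +kernel
theorem ck_637 : chkURange D C 2609152 4096 = true := by decide +kernel
theorem ck_638 : chkURange D C 2613248 4096 = true := by decide +kernel
theorem ck_639 : chkURange D C 2617344 4096 = true := by decide +kernel
theorem ck_640 : chkURange D C 2621440 4096 = true := by decide +kernel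
theorem ck_641 : chkURange D C 2625536 4096 = true := by decide +kernel
theorem ck_642 : chkURange D C 2629632 4096 = true := by decide +kernel
theorem ck_643 : chkURange D C 2633728 4096 = true := by decide +kernel
theorem ck_644 : chkURange D C 2637824 4096 = true := by decide +kernel
theorem ck_645 : chkURange D C 2641920 4096 = true := by decide +kernel
theorem ck_646 : chkURange D C 2646016 4096 = true := by decide +kernel
theorem ck_647 : chkURange D C 2650112 4096 = true := by decide +kernel
theorem chkU_53 (b : ℕ) (h1 : 2605056 ≤ b) (h2 : b < 2654208) : chkU D C b = true := by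
  rcases Nat.lt_or_ge b 2609152 with g0 | g0
  · exact chkURange_spec D C 2605056 4096 ck_636 b (by omega) (by omega)
  rcases Nat.lt_or_ge b 2613248 with g1 | g1
  · exact chkURange_spec D C 2609152 4096 ck_637 b (by omega) (by omega)
  rcases Nat.lt_or_ge b 2617344 with g2 | g2
  · exact chkURange_spec D C 2613248 4096 ck_638 b (by omega) (by omega)
  rcases Nat.lt_or_ge b 2621440 with g3 | g3
  · exact chkURange_spec D C 2617344 4096 ck_639 b (by omega) (by omega)
  rcases Nat.lt_or_ge b 2625536 with g4 | g4
  · exact chkURange_spec D C 2621440 4096 ck_640 b (by omega) (by omega)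
  rcases Nat.lt_or_ge b 2629632 with g5 | g5
  · exact chkURange_spec D C 2625536 4096 ck_641 b (by omega) (by omega)
  rcases Nat.lt_or_ge b 2633728 with g6 | g6
  · exact chkURange_spec D C 2629632 4096 ck_642 b (by omega) (by omega)
  rcases Nat.lt_or_ge b 2637824 with g7 | g7
  · exact chkURange_spec D C 2633728 4096 ck_643 b (by omega) (by omega)
  rcases Nat.lt_or_ge b 2641920 with g8 | g8
  · exact chkURange_spec D C 2637824 4096 ck_644 b (by omega) (by omega)
  rcases Nat.lt_or_ge b 2646016 with g9 | g9
  · exact chkURange_spec D C 2641920 4096 ck_645 b (by omega) (by omega)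
  rcases Nat.lt_or_ge b 2650112 with g10 | g10
  · exact chkURange_spec D C 2646016 4096 ck_646 b (by omega) (by omega)
  exact chkURange_spec D C 2650112 4096 ck_647 b (by omega) (by omega)
end Cfsg.Agent.Lib.Helper4.F24M.U7
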