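import Cfsg.Agent.Lib.Helper4.F24M.U7.Cert
set_option autoImplicit false
set_option maxRecDepth 1000000
set_option Elab.async false
namespace Cfsg.Agent.Lib.Helper4.F24M.U7
open Cfsg.Agent.Lib.Helper4.Sparse
theorem ck_648 : chkURange D C 2654208 4096 = true := by decide +kernel
theorem ck_649 : chkURange D C 2658304 4096 = true := by decide +kernel
theorem ck_650 : chkURange D C 2662400 4096 = true := by decide +kernel
theorem ck_651 : chkURange D C 2666496 4096 = true := by decide +kernel
theorem ck_652 : chkURange D C 2670592 4096 = true := by decide +kernel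
theorem ck_653 : chkURange D C 2674688 4096 = true := by decide +kernel
theorem ck_654 : chkURange D C 2678784 4096 = true := by decide +kernel
theorem ck_655 : chkURange D C 2682880 4096 = true := by decide +kernel
theorem ck_656 : chkURange D C 2686976 4096 = true := by decide +kernel
theorem ck_657 : chkURange D C 2691072 4096 = true := by decide +kernel
theorem ck_658 : chkURange D C 2695168 4096 = true := by decide +kernel
theorem ck_659 : chkURange D C 2699264 4096 = true := by decide +kernel
theorem chkU_54 (b : ℕ) (h1 : 2654208 ≤ b) (h2 : b < 2703360) : chkU D C b = true := by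
  rcases Nat.lt_or_ge b 2658304 with g0 | g0
  · exact chkURange_spec D C 2654208 4096 ck_648 b (by omega) (by omega)
  rcases Nat.lt_or_ge b 2662400 with g1 | g1
  · exact chkURange_spec D C 2658304 4096 ck_649 b (by omega) (by omega)
  rcases Nat.lt_or_ge b 2666496 with g2 | g2
  · exact chkURange_spec D C 2662400 4096 ck_650 b (by omega) (by omega)
  rcases Nat.lt_or_ge b 2670592 with g3 | g3
  · exact chkURange_spec D C 2666496 4096 ck_651 b (by omega) (by omega)
  rcases Nat.lt_or_ge b 2674688 with g4 | g4
  · exact chkURange_spec D C 2670592 4096 ck_652 b (by omega) (by omega)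
  rcases Nat.lt_or_ge b 2678784 with g5 | g5
  · exact chkURange_spec D C 2674688 4096 ck_653 b (by omega) (by omega)
  rcases Nat.lt_or_ge b 2682880 with g6 | g6
  · exact chkURange_spec D C 2678784 4096 ck_654 b (by omega) (by omega)
  rcases Nat.lt_or_ge b 2686976 with g7 | g7
  · exact chkURange_spec D C 2682880 4096 ck_655 b (by omega) (by omega)
  rcases Nat.lt_or_ge b 2691072 with g8 | g8
  · exact chkURange_spec D C 2686976 4096 ck_656 b (by omega) (by omega)
  rcases Nat.lt_or_ge b 2695168 with g9 | g9
  · exact chkURange_spec D C 2691072 4096 ck_657 b (by omega) (by omega)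
  rcases Nat.lt_or_ge b 2699264 with g10 | g10
  · exact chkURange_spec D C 2695168 4096 ck_658 b (by omega) (by omega)
  exact chkURange_spec D C 2699264 4096 ck_659 b (by omega) (by omega)
end Cfsg.Agent.Lib.Helper4.F24M.U7
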