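import Cfsg.Agent.Lib.Helper4.F24M.U7.Cert
set_option autoImplicit false
set_option maxRecDepth 1000000
set_option Elab.async false
namespace Cfsg.Agent.Lib.Helper4.F24M.U7
open Cfsg.Agent.Lib.Helper4.Sparse
theorem ck_672 : chkURange D C 2752512 4096 = true := by decide +kernel
theorem ck_673 : chkURange D C 2756608 4096 = true := by decide +kernel
theorem ck_674 : chkURange D C 2760704 4096 = true := by decide +kernel
theorem ck_675 : chkURange D C 2764800 4096 = true := by decide +kernel
theorem ck_676 : chkURange D C 2768896 4096 = true := by decide +kernel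
theorem ck_677 : chkURange D C 2772992 4096 = true := by decide +kernel
theorem ck_678 : chkURange D C 2777088 4096 = true := by decide +kernel
theorem ck_679 : chkURange D C 2781184 4096 = true := by decide +kernel
theorem ck_680 : chkURange D C 2785280 4096 = true := by decide +kernel
theorem ck_681 : chkURange D C 2789376 4096 = true := by decide +kernel
theorem ck_682 : chkURange D C 2793472 4096 = true := by decide +kernel
theorem ck_683 : chkURange D C 2797568 4096 = true := by decide +kernel
theorem chkU_56 (b : ℕ) (h1 : 2752512 ≤ b) (h2 : b < 2801664) : chkU D C b = true := by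
  rcases Nat.lt_or_ge b 2756608 with g0 | g0
  · exact chkURange_spec D C 2752512 4096 ck_672 b (by omega) (by omega)
  rcases Nat.lt_or_ge b 2760704 with g1 | g1
  · exact chkURange_spec D C 2756608 4096 ck_673 b (by omega) (by omega)
  rcases Nat.lt_or_ge b 2764800 with g2 | g2
  · exact chkURange_spec D C 2760704 4096 ck_674 b (by omega) (by omega)
  rcases Nat.lt_or_ge b 2768896 with g3 | g3
  · exact chkURange_spec D C 2764800 4096 ck_675 b (by omega) (by omega)
  rcases Nat.lt_or_ge b 2772992 with g4 | g4
  · exact chkURange_spec D C 2768896 4096 ck_676 b (by omega) (by omega)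
  rcases Nat.lt_or_ge b 2777088 with g5 | g5
  · exact chkURange_spec D C 2772992 4096 ck_677 b (by omega) (by omega)
  rcases Nat.lt_or_ge b 2781184 with g6 | g6
  · exact chkURange_spec D C 2777088 4096 ck_678 b (by omega) (by omega)
  rcases Nat.lt_or_ge b 2785280 with g7 | g7
  · exact chkURange_spec D C 2781184 4096 ck_679 b (by omega) (by omega)
  rcases Nat.lt_or_ge b 2789376 with g8 | g8
  · exact chkURange_spec D C 2785280 4096 ck_680 b (by omega) (by omega)
  rcases Nat.lt_or_ge b 2793472 with g9 | g9
  · exact chkURange_spec D C 2789376 4096 ck_681 b (by omega) (by omega)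
  rcases Nat.lt_or_ge b 2797568 with g10 | g10
  · exact chkURange_spec D C 2793472 4096 ck_682 b (by omega) (by omega)
  exact chkURange_spec D C 2797568 4096 ck_683 b (by omega) (by omega)
end Cfsg.Agent.Lib.Helper4.F24M.U7
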