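import Cfsg.Agent.Lib.Helper4.F24M.U7.Cert
set_option autoImplicit false
set_option maxRecDepth 1000000
set_option Elab.async false
namespace Cfsg.Agent.Lib.Helper4.F24M.U7
open Cfsg.Agent.Lib.Helper4.Sparse
theorem ck_696 : chkURange D C 2850816 4096 = true := by decide +kernel
theorem ck_697 : chkURange D C 2854912 4096 = true := by decide +kernel
theorem ck_698 : chkURange D C 2859008 4096 = true := by decide +kernel
theorem ck_699 : chkURange D C 2863104 4096 = true := by decide +kernel
theorem ck_700 : chkURange D C 2867200 4096 = true := by decide +kernel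
theorem ck_701 : chkURange D C 2871296 4096 = true := by decide +kernel
theorem ck_702 : chkURange D C 2875392 4096 = true := by decide +kernel
theorem ck_703 : chkURange D C 2879488 4096 = true := by decide +kernel
theorem ck_704 : chkURange D C 2883584 4096 = true := by decide +kernel
theorem ck_705 : chkURange D C 2887680 4096 = true := by decide +kernel
theorem ck_706 : chkURange D C 2891776 4096 = true := by decide +kernel
theorem ck_707 : chkURange D C 2895872 4096 = true := by decide +kernel
theorem chkU_58 (b : ℕ) (h1 : 2850816 ≤ b) (h2 : b < 2899968) : chkU D C b = true := by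
  rcases Nat.lt_or_ge b 2854912 with g0 | g0
  · exact chkURange_spec D C 2850816 4096 ck_696 b (by omega) (by omega)
  rcases Nat.lt_or_ge b 2859008 with g1 | g1
  · exact chkURange_spec D C 2854912 4096 ck_697 b (by omega) (by omega)
  rcases Nat.lt_or_ge b 2863104 with g2 | g2
  · exact chkURange_spec D C 2859008 4096 ck_698 b (by omega) (by omega)
  rcases Nat.lt_or_ge b 2867200 with g3 | g3
  · exact chkURange_spec D C 2863104 4096 ck_699 b (by omega) (by omega)
  rcases Nat.lt_or_ge b 2871296 with g4 | g4
  · exact chkURange_spec D C 2867200 4096 ck_700 b (by omega) (by omega)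
  rcases Nat.lt_or_ge b 2875392 with g5 | g5
  · exact chkURange_spec D C 2871296 4096 ck_701 b (by omega) (by omega)
  rcases Nat.lt_or_ge b 2879488 with g6 | g6
  · exact chkURange_spec D C 2875392 4096 ck_702 b (by omega) (by omega)
  rcases Nat.lt_or_ge b 2883584 with g7 | g7
  · exact chkURange_spec D C 2879488 4096 ck_703 b (by omega) (by omega)
  rcases Nat.lt_or_ge b 2887680 with g8 | g8
  · exact chkURange_spec D C 2883584 4096 ck_704 b (by omega) (by omega)
  rcases Nat.lt_or_ge b 2891776 with g9 | g9
  · exact chkURange_spec D C 2887680 4096 ck_705 b (by omega) (by omega)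
  rcases Nat.lt_or_ge b 2895872 with g10 | g10
  · exact chkURange_spec D C 2891776 4096 ck_706 b (by omega) (by omega)
  exact chkURange_spec D C 2895872 4096 ck_707 b (by omega) (by omega)
end Cfsg.Agent.Lib.Helper4.F24M.U7
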