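import Cfsg.Agent.Lib.Helper4.F24M.U7.Cert
set_option autoImplicit false
set_option maxRecDepth 1000000
set_option Elab.async false
namespace Cfsg.Agent.Lib.Helper4.F24M.U7
open Cfsg.Agent.Lib.Helper4.Sparse
theorem ck_732 : chkURange D C 2998272 4096 = true := by decide +kernel
theorem ck_733 : chkURange D C 3002368 4096 = true := by decide +kernel
theorem ck_734 : chkURange D C 3006464 4096 = true := by decide +kernel
theorem ck_735 : chkURange D C 3010560 4096 = true := by decide +kernel
theorem ck_736 : chkURange D C 3014656 4096 = true := by decide +kernel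
theorem ck_737 : chkURange D C 3018752 4096 = true := by decide +kernel
theorem ck_738 : chkURange D C 3022848 4096 = true := by decide +kernel
theorem ck_739 : chkURange D C 3026944 4096 = true := by decide +kernel
theorem ck_740 : chkURange D C 3031040 4096 = true := by decide +kernel
theorem ck_741 : chkURange D C 3035136 4096 = true := by decide +kernel
theorem ck_742 : chkURange D C 3039232 4096 = true := by decide +kernel
theorem ck_743 : chkURange D C 3043328 4096 = true := by decide +kernel
theorem chkU_61 (b : ℕ) (h1 : 2998272 ≤ b) (h2 : b < 3047424) : chkU D C b = true := by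
  rcases Nat.lt_or_ge b 3002368 with g0 | g0
  · exact chkURange_spec D C 2998272 4096 ck_732 b (by omega) (by omega)
  rcases Nat.lt_or_ge b 3006464 with g1 | g1
  · exact chkURange_spec D C 3002368 4096 ck_733 b (by omega) (by omega)
  rcases Nat.lt_or_ge b 3010560 with g2 | g2
  · exact chkURange_spec D C 3006464 4096 ck_734 b (by omega) (by omega)
  rcases Nat.lt_or_ge b 3014656 with g3 | g3
  · exact chkURange_spec D C 3010560 4096 ck_735 b (by omega) (by omega)
  rcases Nat.lt_or_ge b 3018752 with g4 | g4
  · exact chkURange_spec D C 3014656 4096 ck_736 b (by omega) (by omega)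
  rcases Nat.lt_or_ge b 3022848 with g5 | g5
  · exact chkURange_spec D C 3018752 4096 ck_737 b (by omega) (by omega)
  rcases Nat.lt_or_ge b 3026944 with g6 | g6
  · exact chkURange_spec D C 3022848 4096 ck_738 b (by omega) (by omega)
  rcases Nat.lt_or_ge b 3031040 with g7 | g7
  · exact chkURange_spec D C 3026944 4096 ck_739 b (by omega) (by omega)
  rcases Nat.lt_or_ge b 3035136 with g8 | g8
  · exact chkURange_spec D C 3031040 4096 ck_740 b (by omega) (by omega)
  rcases Nat.lt_or_ge b 3039232 with g9 | g9
  · exact chkURange_spec D C 3035136 4096 ck_741 b (by omega) (by omega)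
  rcases Nat.lt_or_ge b 3043328 with g10 | g10
  · exact chkURange_spec D C 3039232 4096 ck_742 b (by omega) (by omega)
  exact chkURange_spec D C 3043328 4096 ck_743 b (by omega) (by omega)
end Cfsg.Agent.Lib.Helper4.F24M.U7
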