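import Cfsg.Agent.Lib.Helper4.F24M.U7.Cert
set_option autoImplicit false
set_option maxRecDepth 1000000
set_option Elab.async false
namespace Cfsg.Agent.Lib.Helper4.F24M.U7
open Cfsg.Agent.Lib.Helper4.Sparse
theorem ck_744 : chkURange D C 3047424 4096 = true := by decide +kernel
theorem ck_745 : chkURange D C 3051520 4096 = true := by decide +kernel
theorem ck_746 : chkURange D C 3055616 4096 = true := by decide +kernel
theorem ck_747 : chkURange D C 3059712 4096 = true := by decide +kernel
theorem ck_748 : chkURange D C 3063808 4096 = true := by decide +kernel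
theorem ck_749 : chkURange D C 3067904 4096 = true := by decide +kernel
theorem ck_750 : chkURange D C 3072000 4096 = true := by decide +kernel
theorem ck_751 : chkURange D C 3076096 4096 = true := by decide +kernel
theorem ck_752 : chkURange D C 3080192 4096 = true := by decide +kernel
theorem ck_753 : chkURange D C 3084288 4096 = true := by decide +kernel
theorem ck_754 : chkURange D C 3088384 4096 = true := by decide +kernel
theorem ck_755 : chkURange D C 3092480 4096 = true := by decide +kernel
theorem chkU_62 (b : ℕ) (h1 : 3047424 ≤ b) (h2 : b < 3096576) : chkU D C b = true := by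
  rcases Nat.lt_or_ge b 3051520 with g0 | g0
  · exact chkURange_spec D C 3047424 4096 ck_744 b (by omega) (by omega)
  rcases Nat.lt_or_ge b 3055616 with g1 | g1
  · exact chkURange_spec D C 3051520 4096 ck_745 b (by omega) (by omega)
  rcases Nat.lt_or_ge b 3059712 with g2 | g2
  · exact chkURange_spec D C 3055616 4096 ck_746 b (by omega) (by omega)
  rcases Nat.lt_or_ge b 3063808 with g3 | g3
  · exact chkURange_spec D C 3059712 4096 ck_747 b (by omega) (by omega)
  rcases Nat.lt_or_ge b 3067904 with g4 | g4
  · exact chkURange_spec D C 3063808 4096 ck_748 b (by omega) (by omega)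
  rcases Nat.lt_or_ge b 3072000 with g5 | g5
  · exact chkURange_spec D C 3067904 4096 ck_749 b (by omega) (by omega)
  rcases Nat.lt_or_ge b 3076096 with g6 | g6
  · exact chkURange_spec D C 3072000 4096 ck_750 b (by omega) (by omega)
  rcases Nat.lt_or_ge b 3080192 with g7 | g7
  · exact chkURange_spec D C 3076096 4096 ck_751 b (by omega) (by omega)
  rcases Nat.lt_or_ge b 3084288 with g8 | g8
  · exact chkURange_spec D C 3080192 4096 ck_752 b (by omega) (by omega)
  rcases Nat.lt_or_ge b 3088384 with g9 | g9
  · exact chkURange_spec D C 3084288 4096 ck_753 b (by omega) (by omega)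
  rcases Nat.lt_or_ge b 3092480 with g10 | g10
  · exact chkURange_spec D C 3088384 4096 ck_754 b (by omega) (by omega)
  exact chkURange_spec D C 3092480 4096 ck_755 b (by omega) (by omega)
end Cfsg.Agent.Lib.Helper4.F24M.U7
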