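import Cfsg.Agent.Lib.Helper4.F24M.U7.Cert
set_option autoImplicit false
set_option maxRecDepth 1000000
set_option Elab.async false
namespace Cfsg.Agent.Lib.Helper4.F24M.U7
open Cfsg.Agent.Lib.Helper4.Sparse
theorem ck_864 : chkURange D C 3538944 4096 = true := by decide +kernel
theorem ck_865 : chkURange D C 3543040 4096 = true := by decide +kernel
theorem ck_866 : chkURange D C 3547136 4096 = true := by decide +kernel
theorem ck_867 : chkURange D C 3551232 4096 = true := by decide +kernel
theorem ck_868 : chkURange D C 3555328 4096 = true := by decide +kernel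
theorem ck_869 : chkURange D C 3559424 4096 = true := by decide +kernel
theorem ck_870 : chkURange D C 3563520 4096 = true := by decide +kernel
theorem ck_871 : chkURange D C 3567616 4096 = true := by decide +kernel
theorem ck_872 : chkURange D C 3571712 4096 = true := by decide +kernel
theorem ck_873 : chkURange D C 3575808 4096 = true := by decide +kernel
theorem ck_874 : chkURange D C 3579904 4096 = true := by decide +kernel
theorem ck_875 : chkURange D C 3584000 4096 = true := by decide +kernel
theorem chkU_72 (b : ℕ) (h1 : 3538944 ≤ b) (h2 : b < 3588096) : chkU D C b = true := by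
  rcases Nat.lt_or_ge b 3543040 with g0 | g0
  · exact chkURange_spec D C 3538944 4096 ck_864 b (by omega) (by omega)
  rcases Nat.lt_or_ge b 3547136 with g1 | g1
  · exact chkURange_spec D C 3543040 4096 ck_865 b (by omega) (by omega)
  rcases Nat.lt_or_ge b 3551232 with g2 | g2
  · exact chkURange_spec D C 3547136 4096 ck_866 b (by omega) (by omega)
  rcases Nat.lt_or_ge b 3555328 with g3 | g3
  · exact chkURange_spec D C 3551232 4096 ck_867 b (by omega) (by omega)
  rcases Nat.lt_or_ge b 3559424 with g4 | g4
  · exact chkURange_spec D C 3555328 4096 ck_868 b (by omega) (by omega)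
  rcases Nat.lt_or_ge b 3563520 with g5 | g5
  · exact chkURange_spec D C 3559424 4096 ck_869 b (by omega) (by omega)
  rcases Nat.lt_or_ge b 3567616 with g6 | g6
  · exact chkURange_spec D C 3563520 4096 ck_870 b (by omega) (by omega)
  rcases Nat.lt_or_ge b 3571712 with g7 | g7
  · exact chkURange_spec D C 3567616 4096 ck_871 b (by omega) (by omega)
  rcases Nat.lt_or_ge b 3575808 with g8 | g8
  · exact chkURange_spec D C 3571712 4096 ck_872 b (by omega) (by omega)
  rcases Nat.lt_or_ge b 3579904 with g9 | g9
  · exact chkURange_spec D C 3575808 4096 ck_873 b (by omega) (by omega)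
  rcases Nat.lt_or_ge b 3584000 with g10 | g10
  · exact chkURange_spec D C 3579904 4096 ck_874 b (by omega) (by omega)
  exact chkURange_spec D C 3584000 4096 ck_875 b (by omega) (by omega)
end Cfsg.Agent.Lib.Helper4.F24M.U7
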