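import Cfsg.Agent.Lib.Helper4.F24M.U7.Cert
set_option autoImplicit false
set_option maxRecDepth 1000000
set_option Elab.async false
namespace Cfsg.Agent.Lib.Helper4.F24M.U7
open Cfsg.Agent.Lib.Helper4.Sparse
theorem ck_420 : chkURange D C 1720320 4096 = true := by decide +kernel
theorem ck_421 : chkURange D C 1724416 4096 = true := by decide +kernel
theorem ck_422 : chkURange D C 1728512 4096 = true := by decide +kernel
theorem ck_423 : chkURange D C 1732608 4096 = true := by decide +kernel
theorem ck_424 : chkURange D C 1736704 4096 = true := by decide +kernel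
theorem ck_425 : chkURange D C 1740800 4096 = true := by decide +kernel
theorem ck_426 : chkURange D C 1744896 4096 = true := by decide +kernel
theorem ck_427 : chkURange D C 1748992 4096 = true := by decide +kernel
theorem ck_428 : chkURange D C 1753088 4096 = true := by decide +kernel
theorem ck_429 : chkURange D C 1757184 4096 = true := by decide +kernel
theorem ck_430 : chkURange D C 1761280 4096 = true := by decide +kernel
theorem ck_431 : chkURange D C 1765376 4096 = true := by decide +kernel
theorem chkU_35 (b : ℕ) (h1 : 1720320 ≤ b) (h2 : b < 1769472) : chkU D C b = true := by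
  rcases Nat.lt_or_ge b 1724416 with g0 | g0
  · exact chkURange_spec D C 1720320 4096 ck_420 b (by omega) (by omega)
  rcases Nat.lt_or_ge b 1728512 with g1 | g1
  · exact chkURange_spec D C 1724416 4096 ck_421 b (by omega) (by omega)
  rcases Nat.lt_or_ge b 1732608 with g2 | g2
  · exact chkURange_spec D C 1728512 4096 ck_422 b (by omega) (by omega)
  rcases Nat.lt_or_ge b 1736704 with g3 | g3
  · exact chkURange_spec D C 1732608 4096 ck_423 b (by omega) (by omega)
  rcases Nat.lt_or_ge b 1740800 with g4 | g4
  · exact chkURange_spec D C 1736704 4096 ck_424 b (by omega) (by omega)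
  rcases Nat.lt_or_ge b 1744896 with g5 | g5
  · exact chkURange_spec D C 1740800 4096 ck_425 b (by omega) (by omega)
  rcases Nat.lt_or_ge b 1748992 with g6 | g6
  · exact chkURange_spec D C 1744896 4096 ck_426 b (by omega) (by omega)
  rcases Nat.lt_or_ge b 1753088 with g7 | g7
  · exact chkURange_spec D C 1748992 4096 ck_427 b (by omega) (by omega)
  rcases Nat.lt_or_ge b 1757184 with g8 | g8
  · exact chkURange_spec D C 1753088 4096 ck_428 b (by omega) (by omega)
  rcases Nat.lt_or_ge b 1761280 with g9 | g9
  · exact chkURange_spec D C 1757184 4096 ck_429 b (by omega) (by omega)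
  rcases Nat.lt_or_ge b 1765376 with g10 | g10
  · exact chkURange_spec D C 1761280 4096 ck_430 b (by omega) (by omega)
  exact chkURange_spec D C 1765376 4096 ck_431 b (by omega) (by omega)
end Cfsg.Agent.Lib.Helper4.F24M.U7
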