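import Cfsg.Agent.Lib.Helper4.F24M.U7.Cert
set_option autoImplicit false
set_option maxRecDepth 1000000
set_option Elab.async false
namespace Cfsg.Agent.Lib.Helper4.F24M.U7
open Cfsg.Agent.Lib.Helper4.Sparse
theorem ck_852 : chkURange D C 3489792 4096 = true := by decide +kernel
theorem ck_853 : chkURange D C 3493888 4096 = true := by decide +kernel
theorem ck_854 : chkURange D C 3497984 4096 = true := by decide +kernel
theorem ck_855 : chkURange D C 3502080 4096 = true := by decide +kernel
theorem ck_856 : chkURange D C 3506176 4096 = true := by decide +kernel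
theorem ck_857 : chkURange D C 3510272 4096 = true := by decide +kernel
theorem ck_858 : chkURange D C 3514368 4096 = true := by decide +kernel
theorem ck_859 : chkURange D C 3518464 4096 = true := by decide +kernel
theorem ck_860 : chkURange D C 3522560 4096 = true := by decide +kernel
theorem ck_861 : chkURange D C 3526656 4096 = true := by decide +kernel
theorem ck_862 : chkURange D C 3530752 4096 = true := by decide +kernel
theorem ck_863 : chkURange D C 3534848 4096 = true := by decide +kernel
theorem chkU_71 (b : ℕ) (h1 : 3489792 ≤ b) (h2 : b < 3538944) : chkU D C b = true := by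
  rcases Nat.lt_or_ge b 3493888 with g0 | g0
  · exact chkURange_spec D C 3489792 4096 ck_852 b (by omega) (by omega)
  rcases Nat.lt_or_ge b 3497984 with g1 | g1
  · exact chkURange_spec D C 3493888 4096 ck_853 b (by omega) (by omega)
  rcases Nat.lt_or_ge b 3502080 with g2 | g2
  · exact chkURange_spec D C 3497984 4096 ck_854 b (by omega) (by omega)
  rcases Nat.lt_or_ge b 3506176 with g3 | g3
  · exact chkURange_spec D C 3502080 4096 ck_855 b (by omega) (by omega)
  rcases Nat.lt_or_ge b 3510272 with g4 | g4
  · exact chkURange_spec D C 3506176 4096 ck_856 b (by omega) (by omega)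
  rcases Nat.lt_or_ge b 3514368 with g5 | g5
  · exact chkURange_spec D C 3510272 4096 ck_857 b (by omega) (by omega)
  rcases Nat.lt_or_ge b 3518464 with g6 | g6
  · exact chkURange_spec D C 3514368 4096 ck_858 b (by omega) (by omega)
  rcases Nat.lt_or_ge b 3522560 with g7 | g7
  · exact chkURange_spec D C 3518464 4096 ck_859 b (by omega) (by omega)
  rcases Nat.lt_or_ge b 3526656 with g8 | g8
  · exact chkURange_spec D C 3522560 4096 ck_860 b (by omega) (by omega)
  rcases Nat.lt_or_ge b 3530752 with g9 | g9
  · exact chkURange_spec D C 3526656 4096 ck_861 b (by omega) (by omega)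
  rcases Nat.lt_or_ge b 3534848 with g10 | g10
  · exact chkURange_spec D C 3530752 4096 ck_862 b (by omega) (by omega)
  exact chkURange_spec D C 3534848 4096 ck_863 b (by omega) (by omega)
end Cfsg.Agent.Lib.Helper4.F24M.U7
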